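import Cfsg.Agent.Mrg.Omega.EH3Close.CThree.Core
import Cfsg.Agent.Mrg.Omega.EH3Close.Numb


/-!
# The row `C₃(4,4,2)`: the bound (helper635)
-/

set_option autoImplicit false
set_option linter.unusedSectionVars false
set_option Elab.async false

namespace Cfsg.Agent.Omega.EH3Close.CThree

open CoxeterSystem Cfsg.Agent.ChevalleyStructure.CoxeterGeom Cfsg.Agent.Tits.Roots Cfsg.Agent.Tits.Core
  Cfsg.Agent.Tits.Exchange Cfsg.Agent.Nodes.Reps Cfsg.Agent.Nodes.BNOf Cfsg.Agent.Nodes.StabComb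
  Cfsg.Agent.Nodes.Bruhat Cfsg.Agent.Nodes.OppDec Cfsg.Agent.Nodes.PosPair Cfsg.Agent.Nodes.Coroot
  Cfsg.Agent.Nodes.LeviDec Cfsg.Agent.KFacts.RgdSL Cfsg.Agent.Omega.EH3Close.LeadU
  Cfsg.Agent.Omega.EH3Close.RgdLead Cfsg.Agent.Omega.EH3Close.Roots

section

variable {Y : Type*} [Group Y]

theorem card_five [Finite Y] {A B A' B' Z E : Subgroup Y}
    (h : ∀ e ∈ E, ∃ a ∈ A, ∃ b ∈ B, ∃ a' ∈ A', ∃ b' ∈ B', ∃ z ∈ Z, e = a * b * (a' * b') * z) :
    Nat.card E ≤ Nat.card A * (Nat.card B * (Nat.card A' * (Nat.card B' * Nat.card Z))) := by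
  have h' : ∀ e : E, ∃ q : A × (B × (A' × (B' × Z))), (e : Y) = q.1 * q.2.1 * (q.2.2.1 * q.2.2.2.1) * q.2.2.2.2 := by
    intro e
    obtain ⟨a, ha, b, hb, a', ha', b', hb', z, hz, he⟩ := h e e.2
    exact ⟨⟨⟨a, ha⟩, ⟨b, hb⟩, ⟨a', ha'⟩, ⟨b', hb'⟩, ⟨z, hz⟩⟩, he⟩
  choose f hf using h'
  have hinj : Function.Injective f := by
    intro e e' he
    apply Subtype.ext
    rw [hf e, hf e', he]
  have := Nat.card_le_card_of_injective f hinj
  rwa [Nat.card_prod, Nat.card_prod, Nat.card_prod, Nat.card_prod] at this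

theorem le_cent {H K : Subgroup Y} (h : ∀ x ∈ H, ∀ y ∈ K, x * y = y * x) : H ≤ Subgroup.centralizer (K : Set Y) :=
  fun x hx => Subgroup.mem_centralizer_iff.2 fun y hy => (h x hx y hy).symm

theorem comm3 {A B C K : Subgroup Y} (hA : ∀ x ∈ A, ∀ y ∈ K, x * y = y * x) (hB : ∀ x ∈ B, ∀ y ∈ K, x * y = y * x)
    (hC : ∀ x ∈ C, ∀ y ∈ K, x * y = y * x) : ∀ x ∈ A ⊔ (B ⊔ C), ∀ y ∈ K, x * y = y * x := by
  intro x hx y hy
  have : A ⊔ (B ⊔ C) ≤ Subgroup.centralizer (K : Set Y) := sup_le (le_cent hA) (sup_le (le_cent hB) (le_cent hC))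
  exact (Subgroup.mem_centralizer_iff.1 (this hx) y hy).symm

end

variable {W Y : Type*} [Group W] [Finite W] [Group Y] {cs : CoxeterSystem (CoxeterMatrix.B 3) W}
  {h : IsCartan (CoxeterMatrix.B 3) AC3} {T : Subgroup Y} {n : Fin 3 → Y} {X : (Fin 3 → ℤ) → Subgroup Y}

/-- `X r`, `X s` commute -/
def Cp (r s : Fin 3 → ℤ) : Prop := r ∈ AL ∧ s ∈ AL ∧ (r = s ∨ (r ≠ s ∧ r ≠ -s ∧ ∀ w ∈ AL, bt r s w = false))

instance (r s : Fin 3 → ℤ) : Decidable (Cp r s) := by unfold Cp; infer_instance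

/-- `[X r, X s] ≤ X z` -/
def Cq (z r s : Fin 3 → ℤ) : Prop :=
  r ∈ AL ∧ s ∈ AL ∧ (r = s ∨ (r ≠ s ∧ r ≠ -s ∧ ∀ w ∈ AL, bt r s w = true → w = z))

instance (z r s : Fin 3 → ℤ) : Decidable (Cq z r s) := by unfold Cq; infer_instance

section

variable (R : RGD cs h 2 T n X) (F : Fac T X)

include R F

theorem Cp.comm {r s : Fin 3 → ℤ} (H : Cp r s) : ∀ u ∈ X r, ∀ v ∈ X s, u * v = v * u := by
  obtain ⟨h1, h2, h3⟩ := H
  rcases h3 with rfl | ⟨h3, h4, h5⟩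
  · exact F.ab h1
  · exact comm_X R h1 h2 h3 h4 h5

theorem Cq.comm {z r s : Fin 3 → ℤ} (H : Cq z r s) : ∀ u ∈ X r, ∀ v ∈ X s, u * v * u⁻¹ * v⁻¹ ∈ X z := by
  obtain ⟨h1, h2, h3⟩ := H
  rcases h3 with rfl | ⟨h3, h4, h5⟩
  · intro u hu v hv
    rw [F.ab h1 u hu v hv, mul_inv_cancel_right, mul_inv_cancel]
    exact one_mem _
  · exact comm_in_X R h1 h2 h3 h4 h5

theorem comm_list {L : List (Fin 3 → ℤ)} {z : Fin 3 → ℤ} (h1 : ∀ r ∈ L, Cp z r) (h2 : ∀ r ∈ L, ∀ s ∈ L, Cq z r s) :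
    ∀ x ∈ RGD.Sup X {r | r ∈ L}, ∀ y ∈ RGD.Sup X {r | r ∈ L}, x * y * x⁻¹ * y⁻¹ ∈ X z :=
  comm_Sup (fun z hz r hr x hx => (h1 r hr).comm R F z hz x hx) fun r hr s hs => (h2 r hr s hs).comm R F

omit R F in
theorem VJ_eq' : VJ cs h X {1, 2} = RGD.Sup X {z | z ∈ LN} := by
  unfold VJ
  congr 1
  ext z
  exact mem_NotJ

omit R F in
theorem UJ_eq' : UJ cs h X {1, 2} = RGD.Sup X {z | z ∈ LF ∨ z = ![0, 0, 1]} := by
  unfold UJ
  congr 1
  ext z
  exact mem_PosJ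

theorem comm_E : ∀ x ∈ VJ cs h X {1, 2}, ∀ y ∈ VJ cs h X {1, 2}, x * y * x⁻¹ * y⁻¹ ∈ X ![2, 2, 1] := by
  rw [VJ_eq']
  exact comm_list R F (by decide +kernel) (by decide +kernel)

theorem comm_F : ∀ x ∈ RGD.Sup X {z | z ∈ LF}, ∀ y ∈ RGD.Sup X {z | z ∈ LF}, x * y * x⁻¹ * y⁻¹ ∈ X ![0, 2, 1] :=
  comm_list R F (by decide +kernel) (by decide +kernel)

omit R F in
theorem E_le : VJ cs h X {1, 2} ≤ (X ![1, 2, 1] ⊔ (X ![1, 0, 0] ⊔ X ![2, 2, 1])) ⊔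
    (X ![1, 1, 1] ⊔ (X ![1, 1, 0] ⊔ X ![2, 2, 1])) := by
  rw [VJ_eq']
  refine RGD.Sup_le fun z hz => ?_
  simp only [LN, List.mem_cons, List.not_mem_nil, or_false, Set.mem_setOf_eq] at hz
  rcases hz with rfl | rfl | rfl | rfl | rfl
  · exact le_sup_right.trans (le_sup_right.trans le_sup_left)
  · exact le_sup_left.trans le_sup_left
  · exact le_sup_left.trans (le_sup_right.trans le_sup_left)
  · exact le_sup_left.trans le_sup_right
  · exact le_sup_left.trans (le_sup_right.trans le_sup_right)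

omit R F in
theorem X_le_E {z : Fin 3 → ℤ} (hz : z ∈ LN) : X z ≤ VJ cs h X {1, 2} := by
  rw [VJ_eq']
  exact RGD.le_Sup (S := {z | z ∈ LN}) hz

omit R F in
theorem le_E : (X ![1, 2, 1] ⊔ (X ![1, 0, 0] ⊔ X ![2, 2, 1])) ⊔
    (X ![1, 1, 1] ⊔ (X ![1, 1, 0] ⊔ X ![2, 2, 1])) ≤ VJ cs h X {1, 2} :=
  sup_le (sup_le (X_le_E (by decide +kernel)) (sup_le (X_le_E (by decide +kernel)) (X_le_E (by decide +kernel))))
    (sup_le (X_le_E (by decide +kernel)) (sup_le (X_le_E (by decide +kernel)) (X_le_E (by decide +kernel))))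

theorem comm_PP : ∀ x ∈ X ![1, 2, 1] ⊔ (X ![1, 0, 0] ⊔ X ![2, 2, 1]),
    ∀ y ∈ X ![1, 1, 1] ⊔ (X ![1, 1, 0] ⊔ X ![2, 2, 1]), x * y = y * x := by
  have key : ∀ r ∈ [![1, 2, 1], ![1, 0, 0], ![2, 2, 1]], ∀ s ∈ [![1, 1, 1], ![1, 1, 0], ![2, 2, 1]],
      Cp s r := by decide +kernel
  have h1 : ∀ r ∈ ([![1, 2, 1], ![1, 0, 0], ![2, 2, 1]] : List (Fin 3 → ℤ)), ∀ x ∈ X r,
      ∀ y ∈ X ![1, 1, 1] ⊔ (X ![1, 1, 0] ⊔ X ![2, 2, 1]), x * y = y * x := by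
    intro r hr x hx y hy
    exact (comm3 ((key r hr _ (by simp)).comm R F) ((key r hr _ (by simp)).comm R F)
      ((key r hr _ (by simp)).comm R F) y hy x hx).symm
  exact comm3 (h1 _ (by simp)) (h1 _ (by simp)) (h1 _ (by simp))

omit R F in
theorem hk1 : Hk ![1, 2, 1] ![1, 0, 0] ![2, 2, 1] := by decide +kernel

omit R F in
theorem hk2 : Hk ![1, 1, 1] ![1, 1, 0] ![2, 2, 1] := by decide +kernel

omit R F in
theorem hk3 : Hk ![0, 1, 1] ![0, 1, 0] ![0, 2, 1] := by decide +kernel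

theorem centre_E {e : Y} (he : e ∈ VJ cs h X {1, 2}) (hc : ∀ e' ∈ VJ cs h X {1, 2}, e * e' = e' * e) :
    e ∈ X ![2, 2, 1] := by
  refine heis_mul (comm_PP R F) (fun p hp hc => ?_) (fun p hp hc => ?_) (E_le he)
    (fun e' he' => hc e' (le_E he'))
  · exact hk1.centre R F hp (fun g hg => hc g (Subgroup.mem_sup_left hg))
      (fun g hg => hc g (Subgroup.mem_sup_right (Subgroup.mem_sup_left hg)))
  · exact hk2.centre R F hp (fun g hg => hc g (Subgroup.mem_sup_left hg))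
      (fun g hg => hc g (Subgroup.mem_sup_right (Subgroup.mem_sup_left hg)))

omit R F in
theorem F_le : RGD.Sup X {z | z ∈ LF} ≤ X ![0, 1, 1] ⊔ (X ![0, 1, 0] ⊔ X ![0, 2, 1]) := by
  refine RGD.Sup_le fun z hz => ?_
  have hz' : z ∈ LF := hz
  simp only [LF, List.mem_cons, List.not_mem_nil, or_false] at hz'
  rcases hz' with rfl | rfl | rfl
  · exact le_sup_right.trans le_sup_right
  · exact le_sup_left
  · exact le_sup_left.trans le_sup_right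

omit R F in
theorem X_le_F {z : Fin 3 → ℤ} (hz : z ∈ LF) : X z ≤ RGD.Sup X {z | z ∈ LF} := RGD.le_Sup (S := {z | z ∈ LF}) hz

theorem centre_F {f : Y} (hf : f ∈ RGD.Sup X {z | z ∈ LF}) (hc : ∀ f' ∈ RGD.Sup X {z | z ∈ LF}, f * f' = f' * f) :
    f ∈ X ![0, 2, 1] :=
  hk3.centre R F (F_le hf) (fun g hg => hc g (X_le_F (by decide +kernel) hg))
    (fun g hg => hc g (X_le_F (by decide +kernel) hg))

omit F in
theorem F_norm : ∀ u ∈ UJ cs h X {1, 2}, ∀ f ∈ RGD.Sup X {z | z ∈ LF}, u * f * u⁻¹ ∈ RGD.Sup X {z | z ∈ LF} := by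
  have key : ∀ r ∈ (![0, 0, 1] :: LF), r ∈ AL ∧ ∀ s ∈ LF, s ∈ AL ∧ (r = s ∨ (r ≠ -s ∧
      ∀ w ∈ AL, bt r s w = true → w ∈ LF)) := by decide +kernel
  have h1 : UJ cs h X {1, 2} ≤ Subgroup.normalizer (RGD.Sup X {z | z ∈ LF} : Set Y) := by
    rw [UJ_eq']
    refine RGD.Sup_le fun r hr => ?_
    have hr' : r ∈ (![0, 0, 1] :: LF) := by rw [List.mem_cons]; exact Or.symm hr
    obtain ⟨k1, k2⟩ := key r hr'
    refine R.le_normalizer (isRoot_iff.2 k1) fun s hs => ?_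
    obtain ⟨k3, k4⟩ := k2 s hs
    refine ⟨isRoot_iff.2 k3, k4.imp id fun k5 => ⟨k5.1, fun z hz => ?_⟩⟩
    obtain ⟨h2, h3⟩ := bt_of_btwn hz
    exact k5.2 z h2 h3
  intro u hu f hf
  exact (Subgroup.mem_normalizer_iff.1 (h1 hu) f).1 hf

omit F in
theorem UJ_dec : ∀ u ∈ UJ cs h X {1, 2}, ∃ v ∈ X ![0, 0, 1], ∃ f ∈ RGD.Sup X {z | z ∈ LF}, u = v * f := by
  intro u hu
  refine mem_sup_of (fun a ha b hb => F_norm (cs := cs) (h := h) R a ?_ b hb) ?_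
  · rw [UJ_eq']
    exact RGD.le_Sup (S := {z | z ∈ LF ∨ z = ![0, 0, 1]}) (Or.inr rfl) ha
  · rw [UJ_eq'] at hu
    have h1 : RGD.Sup X {z | z ∈ LF ∨ z = ![0, 0, 1]} ≤ X ![0, 0, 1] ⊔ RGD.Sup X {z | z ∈ LF} := by
      refine RGD.Sup_le fun z hz => ?_
      rcases hz with hz | rfl
      · exact (X_le_F hz).trans le_sup_right
      · exact le_sup_left
    exact h1 hu

/-- the commutator of a long root group -/
theorem exists_lo {m x z : Fin 3 → ℤ} (hm : m ∈ AL) (hx : x ∈ AL) (e1 : cc m x = -2) (e2 : cc x m = -1)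
    (e3 : m + (2 : ℤ) • x = z) {K : Subgroup Y} (hK : X x ≤ K) :
    ∀ v ∈ X m, v ≠ 1 → ∃ u ∈ K, v * u * v⁻¹ * u⁻¹ ∉ X z := by
  intro v hv hv1
  obtain ⟨u, hu, hu1⟩ := exists_ne_one' R (isRoot_iff.2 hx)
  exact ⟨u, hK hu, by rw [← e3]; exact F.lo m hm x hx e1 e2 v hv hv1 u hu hu1⟩

theorem card_E [Finite Y] : Nat.card (VJ cs h X {1, 2}) ≤ 512 := by
  have h1 := card_five (A := X ![1, 2, 1]) (B := X ![1, 0, 0]) (A' := X ![1, 1, 1]) (B' := X ![1, 1, 0])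
    (Z := X ![2, 2, 1]) (E := VJ cs h X {1, 2}) (by
      intro e he
      obtain ⟨p, hp, p', hp', rfl⟩ := mem_sup_of (fun a ha b hb => by
        rw [comm_PP R F a ha b hb, mul_inv_cancel_right]; exact hb) (E_le he)
      obtain ⟨a, ha, b, hb, z, hz, rfl⟩ := exists_abz (hk1.ca R) (hk1.cb R) (hk1.cab R) hp
      obtain ⟨a', ha', b', hb', z', hz', rfl⟩ := exists_abz (hk2.ca R) (hk2.cb R) (hk2.cab R) hp'
      refine ⟨a, ha, b, hb, a', ha', b', hb', z * z', mul_mem hz hz', ?_⟩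
      have h3 : z * (a' * b') = a' * b' * z := by
        rw [← mul_assoc, hk2.ca R z hz a' ha', mul_assoc, hk2.cb R z hz b' hb', ← mul_assoc]
      calc a * b * z * (a' * b' * z') = a * b * (z * (a' * b')) * z' := by group
        _ = _ := by rw [h3]; group)
  rw [F.c4 ![1, 2, 1] (by decide +kernel) (by decide +kernel), F.c4 ![1, 0, 0] (by decide +kernel) (by decide +kernel),
    F.c4 ![1, 1, 1] (by decide +kernel) (by decide +kernel), F.c4 ![1, 1, 0] (by decide +kernel) (by decide +kernel),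
    F.c2 ![2, 2, 1] (by decide +kernel) (by decide +kernel)] at h1
  omega

end

/-! ### The bound -/

theorem card_core {V : Type*} [Finite Y] [AddCommGroup V] [Module (ZMod 2) V] {ρ : Y →* (V ≃ₗ[ZMod 2] V)} {a : V}
    (D : Star.Mod cs h T n X ρ a 2) (hq : ∀ j, Nat.card (X (sr j)) = (![4, 4, 2] : Fin 3 → ℕ) j) {Ab : Subgroup Y}
    (hA : Ab ≤ RGD.Sup X (RGD.Pos cs h)) (hc : ∀ x ∈ Ab, ∀ y ∈ Ab, x * y = y * x)
    (hn : ∀ g ∈ RGD.Sup X (RGD.Pos cs h), ∀ x ∈ Ab, g * x * g⁻¹ ∈ Ab)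
    (hqd : ∀ x ∈ Ab, ∀ y ∈ Ab, ∀ v, ρ x (ρ y v + v) = ρ y v + v) : Nat.card Ab ≤ 2 ^ 5 := by
  have R := D.rgd
  have F := fac R hq
  -- `Ab ≤ E`
  have hle : Ab ≤ VJ cs h X {1, 2} := by
    by_contra hne
    obtain ⟨x, hx, hx1, y, hy, hxy, z, hz, hz1, hzN⟩ := main_abs (U := RGD.Sup X (RGD.Pos cs h))
      (E := VJ cs h X {1, 2}) (F := RGD.Sup X {z | z ∈ LF}) (UJ := UJ cs h X {1, 2}) (Γ := X ![0, 0, 1])
      (β := X ![0, 2, 1]) (θ := X ![2, 2, 1]) (N := Ab) R.isPGroup_Upos (VJ_le_U _) (UJ_le_U _)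
      (by rw [UJ_eq']; exact RGD.Sup_mono fun z hz => Or.inl hz)
      (fun u hu e he => (Subgroup.mem_normalizer_iff.1
        (PJ_le_normalizer_VJ R {1, 2} (B_le_PJ (RGD.U_le_B hu))) e).1 he)
      (fun g hg => (mem_U_iff R).1 hg) (F_norm R) (UJ_dec R) (fun e he hc => centre_E R F he hc)
      (fun f hf hc => centre_F R F hf hc) (comm_E R F) (comm_F R F)
      (exists_lo R F (x := ![0, 1, 0]) (by decide +kernel) (by decide +kernel) (by decide +kernel)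
        (by decide +kernel) (by decide +kernel) (X_le_F (by decide +kernel)))
      (exists_lo R F (x := ![1, 0, 0]) (by decide +kernel) (by decide +kernel) (by decide +kernel)
        (by decide +kernel) (by decide +kernel) (X_le_E (by decide +kernel)))
      hA hn hne
    have e1 : rep cs h (cs.simple 1) (sr 2) = ![0, 2, 1] := by
      rw [rep_simple]; decide +kernel
    have e2 : rep cs h (cs.simple 0 * cs.simple 1) (sr 2) = ![2, 2, 1] := by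
      rw [rep_mul_apply, e1, rep_simple]; decide +kernel
    have e3 : rep cs h (cs.simple 1 * cs.simple 2 * (cs.simple 1)⁻¹) ![2, 2, 1] = ![2, 2, 1] := by
      rw [cs.inv_simple, rep_mul_apply, rep_mul_apply, rep_simple, rep_simple]; decide +kernel
    obtain ⟨v, hv⟩ := D.kill (J := {1, 2}) (Or.inr rfl) (u := cs.simple 1) (u' := cs.simple 0 * cs.simple 1)
      (Cfsg.Agent.Tits.Exchange.simple_mem_WJ cs ⟨Or.inl rfl, by
        intro h1; exact absurd h1 (by decide)⟩)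
      (mul_mem (Cfsg.Agent.Tits.Exchange.simple_mem_WJ cs (by
        intro h1; exact absurd h1 (by decide)))
        (Cfsg.Agent.Tits.Exchange.simple_mem_WJ cs (by
        intro h1; exact absurd h1 (by decide))))
      (by rw [e2]; exact e3) (z := z) (x := x) (y := y) (by rw [e2]; exact hz) hz1 (by rw [e1]; exact hx) hx1 hy
    exact hv (hqd _ hxy _ hzN v)
  -- the count
  obtain ⟨z, hz, hz1⟩ := exists_ne_one' R (isRoot_iff.2 (show ![2, 2, 1] ∈ AL by decide +kernel))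
  have c2 := F.c2 ![2, 2, 1] (by decide +kernel) (by decide +kernel)
  have hall : ∀ g ∈ X ![2, 2, 1], g = 1 ∨ g = z := by
    intro g hg
    by_cases hg1 : g = 1
    · exact Or.inl hg1
    · exact Or.inr (eq_of_card_two c2 hg hz hg1 hz1)
  have hzz : z * z = 1 := by
    rcases hall _ (mul_mem hz hz) with h1 | h1
    · exact h1
    · exact absurd (mul_eq_left.1 h1) hz1
  have hzE : ∀ e ∈ VJ cs h X {1, 2}, z * e = e * z := by
    have h1 : VJ cs h X {1, 2} ≤ Subgroup.centralizer {z} := by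
      rw [VJ_eq']
      refine RGD.Sup_le fun r hr g hg => ?_
      have key : ∀ r ∈ LN, Cp ![2, 2, 1] r := by decide +kernel
      exact Subgroup.mem_centralizer_singleton_iff.2 ((key r hr).comm R F z hz g hg).symm
    intro e he
    exact (Subgroup.mem_centralizer_singleton_iff.1 (h1 he)).symm
  have h1 := card_sq_le (E := VJ cs h X {1, 2}) (A := Ab) hz1 hzz hzE (by
      intro e he e' he'
      have h2 : e * e' = (e * e' * e⁻¹ * e'⁻¹) * (e' * e) := by group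
      rcases hall _ (comm_E R F e he e' he') with h3 | h3
      · left; rw [h2, h3, one_mul]
      · right; rw [h2, h3]; exact hzE _ (mul_mem he' he)) hle hc
    (fun e he hc => hall e (centre_E R F he hc))
  have h2 := card_E (cs := cs) (h := h) R F
  by_contra hcon
  push Not at hcon
  have h3 : 33 ≤ Nat.card Ab := by
    have : (2 : ℕ) ^ 5 = 32 := by norm_num
    omega
  have h4 : 33 * 33 ≤ Nat.card Ab * Nat.card Ab := Nat.mul_le_mul h3 h3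
  omega

/-- **The row `C₃(4,4,2)`.** -/
theorem card_le {W Y V : Type*} [Group W] [Finite W] [Group Y] [Finite Y] [AddCommGroup V] [Module (ZMod 2) V]
    {cs : CoxeterSystem (CoxeterMatrix.B 3) W} {A : Fin 3 → Fin 3 → ℤ} {h : IsCartan (CoxeterMatrix.B 3) A}
    {T : Subgroup Y} {n : Fin 3 → Y} {X : (Fin 3 → ℤ) → Subgroup Y} {ρ : Y →* (V ≃ₗ[ZMod 2] V)} {a : V}
    (D : Star.Mod cs h T n X ρ a 2) (hq : ∀ j, Nat.card (X (sr j)) = (![4, 4, 2] : Fin 3 → ℕ) j) {Ab : Subgroup Y}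
    (hA : Ab ≤ RGD.Sup X (RGD.Pos cs h)) (hc : ∀ x ∈ Ab, ∀ y ∈ Ab, x * y = y * x)
    (hn : ∀ g ∈ RGD.Sup X (RGD.Pos cs h), ∀ x ∈ Ab, g * x * g⁻¹ ∈ Ab)
    (hqd : ∀ x ∈ Ab, ∀ y ∈ Ab, ∀ v, ρ x (ρ y v + v) = ρ y v + v) : Nat.card Ab ≤ 2 ^ 5 := by
  obtain ⟨h', X', D', e1, e2, -, -⟩ := DualRgd.to_C3 D
  exact card_core D' (fun j => by rw [e1]; exact hq j) (by rw [e2]; exact hA) hc (by rw [e2]; exact hn) hqd

end Cfsg.Agent.Omega.EH3Close.CThree
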